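import Groth.Agent.S1026
import Groth.Agent.Ega3B.ChiFib
import Groth.Agent.Etcore.DegZero
import Groth.Agent.Etcore.DimBaseChange
import Groth.Agent.Fga.EulerLEAdd

/-!
# Constancy of the Euler characteristic on geometric fibres

`p : Z ⟶ B` proper, flat, of finite presentation, `B` (pre)connected, `L` invertible on `Z`; for geometric points
(or any field valued points) `σ`, `σ'` of `B` and `d`, `d'` at least the dimensions of the fibres,
`χ(Z_σ, L_σ) = χ(Z_σ', L_σ')`.
-/

set_option autoImplicit false
universe u
open CategoryTheory CategoryTheory.Limits AlgebraicGeometry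

namespace Groth.Agent.Pic13.H167.ChiGeom

variable {Z B : Scheme.{u}} (p : Z ⟶ B)

/-- The Euler characteristic of the fibre of a proper morphism is computed in degrees `≤ d` as soon as
the dimension of the fibre is at most `d`. -/
theorem eulerChar_eq [IsProper p] (F : Z.Modules) (b : B) (d : ℕ)
    (hd : topologicalKrullDim ↑(p.fiber b) ≤ d) :
    PerfAux.eulerChar p F b =
      @FGA.eulerCharLE (B.residueField b) _ (p.fiber b) ⟨p.fiberToSpecResidueField b⟩
        ((Scheme.Modules.pullback (p.fiberι b)).obj F) d := by
  let _ : (p.fiber b).Over (Spec (CommRingCat.of (B.residueField b))) := ⟨p.fiberToSpecResidueField b⟩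
  have hN : IsNoetherian (p.fiber b) := by
    have h1 : LocallyOfFiniteType (p.fiberToSpecResidueField b) :=
      inferInstanceAs (LocallyOfFiniteType (pullback.snd p (B.fromSpecResidueField b)))
    have h2 : IsLocallyNoetherian (p.fiber b) :=
      LocallyOfFiniteType.isLocallyNoetherian (p.fiberToSpecResidueField b)
    have h3 : CompactSpace (p.fiber b) := QuasiCompact.compactSpace_of_compactSpace
      (p.fiberToSpecResidueField b)
    exact ⟨⟩
  unfold PerfAux.eulerChar FGA.eulerCharLE
  rw [finsum_eq_sum_of_support_subset (s := Finset.range (d + 1))]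
  · rfl
  · intro n hn
    by_contra hc
    have h2 : d < n := by
      have h5 : ¬ n < d + 1 := by simpa using hc
      omega
    have h3 : Subsingleton (PerfAux.fiberH p F b n) :=
      Fga.EulerLEAdd.subsingleton_HH (p.fiber b) d hd _ n h2
    apply hn
    have h4 : PerfAux.betti p F b n = 0 := Module.finrank_zero_of_subsingleton
    simp only [h4, Nat.cast_zero, mul_zero]

/-- The Euler characteristic of the pullback of a module to a geometric fibre. -/
theorem eulerChar_eq_geom [IsProper p] (F : Z.Modules) (hF : Coh.IsQCoh F)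
    {Ω : Type u} [Field Ω] (σ : Spec (CommRingCat.of Ω) ⟶ B) (d : ℕ)
    (hd : topologicalKrullDim ↑(pullback p σ) ≤ d) :
    PerfAux.eulerChar p F (σ (IsLocalRing.closedPoint Ω)) =
      @FGA.eulerCharLE Ω _ (pullback p σ) ⟨pullback.snd p σ⟩
        ((Scheme.Modules.pullback (pullback.fst p σ)).obj F) d := by
  let b : B := σ (IsLocalRing.closedPoint Ω)
  -- factor `σ` through the residue field
  let τ : Spec (CommRingCat.of Ω) ⟶ Spec (CommRingCat.of (B.residueField b)) :=
    Spec.map (B.descResidueField (Scheme.stalkClosedPointTo σ))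
  have hτ : τ ≫ B.fromSpecResidueField b = σ :=
    Scheme.descResidueField_stalkClosedPointTo_fromSpecResidueField _ _ σ
  let g : pullback p σ ⟶ p.fiber b := pullback.lift (pullback.fst p σ) (pullback.snd p σ ≫ τ) (by
    rw [Category.assoc, hτ, pullback.condition])
  have hg : g ≫ p.fiberι b = pullback.fst p σ := pullback.lift_fst _ _ _
  have hpb : IsPullback g (pullback.snd p σ) (p.fiberToSpecResidueField b) τ := by
    refine IsPullback.of_right (h₁₂ := p.fiberι b) (v₁₃ := p) (h₂₂ := B.fromSpecResidueField b) ?_
      (pullback.lift_snd _ _ _) (IsPullback.of_hasPullback _ _)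
    rw [hg, hτ]
    exact IsPullback.of_hasPullback _ _
  have h1 : LocallyOfFiniteType (p.fiberToSpecResidueField b) :=
    inferInstanceAs (LocallyOfFiniteType (pullback.snd p (B.fromSpecResidueField b)))
  have h2 : QuasiSeparated (p.fiberToSpecResidueField b) :=
    inferInstanceAs (QuasiSeparated (pullback.snd p (B.fromSpecResidueField b)))
  have hdim : topologicalKrullDim ↑(pullback p σ) = topologicalKrullDim ↑(p.fiber b) :=
    Etcore.DimBaseChange.topologicalKrullDim_eq (K := CommRingCat.of (B.residueField b))
      (L := CommRingCat.of Ω) (Field.toIsField _) (Field.toIsField _)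
      (p.fiberToSpecResidueField b) _ _ τ hpb
  rw [eulerChar_eq p F b d (hdim ▸ hd)]
  let _ : (p.fiber b).Over (Spec (CommRingCat.of (B.residueField b))) := ⟨p.fiberToSpecResidueField b⟩
  let _ : (pullback p σ).Over (Spec (CommRingCat.of Ω)) := ⟨pullback.snd p σ⟩
  have h3 : CompactSpace (p.fiber b) := QuasiCompact.compactSpace_of_compactSpace
    (p.fiberToSpecResidueField b)
  have h4 : QuasiSeparatedSpace (p.fiber b) := quasiSeparatedSpace_of_quasiSeparated
    (p.fiberToSpecResidueField b)
  have hF' : Coh.IsQCoh ((Scheme.Modules.pullback (p.fiberι b)).obj F) :=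
    VarietyB.PullSec.isQCoh_pullback _ F hF
  rw [← Etcore.DegZero.eulerCharLE_pullback (B.residueField b) (p.fiber b) Ω (pullback p σ) g τ hpb
    ((Scheme.Modules.pullback (p.fiberι b)).obj F) hF' d]
  refine Etcore.DegZero.eulerCharLE_congr Ω (pullback p σ) ?_ d
  exact (Scheme.Modules.pullbackComp g (p.fiberι b)).app F ≪≫
    (Scheme.Modules.pullbackCongr hg).app F

/-- The Euler characteristics of the fibres of an invertible module at two field-valued points of a
preconnected base agree. -/
theorem eulerCharLE_eq [IsProper p] [Flat p] [LocallyOfFinitePresentation p] [PreconnectedSpace B]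
    {L : Z.Modules} (hL : PicF.IsInvertible L)
    {Ω Ω' : Type u} [Field Ω] [Field Ω'] (σ : Spec (CommRingCat.of Ω) ⟶ B)
    (σ' : Spec (CommRingCat.of Ω') ⟶ B) (d d' : ℕ)
    (hd : topologicalKrullDim ↑(pullback p σ) ≤ d) (hd' : topologicalKrullDim ↑(pullback p σ') ≤ d') :
    @FGA.eulerCharLE Ω _ (pullback p σ) ⟨pullback.snd p σ⟩
        ((Scheme.Modules.pullback (pullback.fst p σ)).obj L) d =
      @FGA.eulerCharLE Ω' _ (pullback p σ') ⟨pullback.snd p σ'⟩
        ((Scheme.Modules.pullback (pullback.fst p σ')).obj L) d' := by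
  have hq : Coh.IsQCoh L := Ega2.QCohLocal.isQCoh_of_isInvertible hL
  rw [← eulerChar_eq_geom p L hq σ d hd, ← eulerChar_eq_geom p L hq σ' d' hd']
  exact (S1026.result p L (Ega3B.ChiFib.isFP_of_isInvertible hL)
    (Ega3B.ChiFib.isFlatOver_of_isInvertible p hL)).apply_eq_of_preconnectedSpace _ _

end Groth.Agent.Pic13.H167.ChiGeom
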