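import Groth.Agent.Pic13.H138.AlgEquiv

/-!
# Algebraic and τ-equivalence under extension of algebraically closed fields

Let `X' = X ×_k k'` (given by a cartesian square), `k` algebraically closed.

* `AlgEq.baseChange`, `mem_alg0_baseChange`, `mem_tau0_baseChange`, `isTauEquivZero_baseChange`:
  algebraic and τ-equivalence are preserved by the extension `k ⟶ k'`.
-/

set_option autoImplicit false
universe u

open CategoryTheory CategoryTheory.Limits AlgebraicGeometry

namespace Groth.Agent.Pic13.H167.FieldExt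

open Groth.Agent.Grpsch.PicGrp Groth.Agent.Pic13.H138.Slice Groth.Agent.Pic13.H138.AlgEquiv

section BC

variable {k : Type u} [Field k] {k' : Type u} [Field k']
variable {X : Scheme.{u}} [X.Over (Spec (CommRingCat.of k))]
variable {X' : Scheme.{u}} [X'.Over (Spec (CommRingCat.of k'))]
variable (g : X' ⟶ X) (s : Spec (CommRingCat.of k') ⟶ Spec (CommRingCat.of k))

/-- The comparison `X' ×_{k'} T' ⟶ X ×_k T`, for `h : T' ⟶ T` over `s : Spec k' ⟶ Spec k`. -/
noncomputable def prodBC (hg : g ≫ (X ↘ Spec (CommRingCat.of k)) = (X' ↘ Spec (CommRingCat.of k')) ≫ s)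
    {T T' : Scheme.{u}} (q : T ⟶ Spec (CommRingCat.of k)) (q' : T' ⟶ Spec (CommRingCat.of k'))
    (h : T' ⟶ T) (hh : h ≫ q = q' ≫ s) :
    Pic13.prodK k' X' q' ⟶ Pic13.prodK k X q :=
  pullback.lift (pullback.fst _ _ ≫ g) (pullback.snd _ _ ≫ h) (by
    rw [Category.assoc, hg, Category.assoc, hh, pullback.condition_assoc])

variable {g s}

theorem sliceAt_prodBC (hg : g ≫ (X ↘ Spec (CommRingCat.of k)) = (X' ↘ Spec (CommRingCat.of k')) ≫ s)
    {T T' : Scheme.{u}} (q : T ⟶ Spec (CommRingCat.of k)) (q' : T' ⟶ Spec (CommRingCat.of k'))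
    (h : T' ⟶ T) (hh : h ≫ q = q' ≫ s)
    (t : Spec (CommRingCat.of k) ⟶ T) (ht : t ≫ q = 𝟙 _)
    (t' : Spec (CommRingCat.of k') ⟶ T') (ht' : t' ≫ q' = 𝟙 _) (htt : t' ≫ h = s ≫ t) :
    Pic13.sliceAt k' X' q' t' ht' ≫ prodBC g s hg q q' h hh = g ≫ Pic13.sliceAt k X q t ht := by
  apply pullback.hom_ext
  · rw [prodBC, Category.assoc, pullback.lift_fst, sliceAt_fst_assoc, Category.assoc, sliceAt_fst,
      Category.comp_id]
  · rw [prodBC, Category.assoc, pullback.lift_snd, sliceAt_snd_assoc, Category.assoc, sliceAt_snd,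
      htt, reassoc_of% hg]

/-- Algebraic equivalence is preserved by extensions of algebraically closed fields. -/
theorem algEq_baseChange [IsAlgClosed k]
    (hg : g ≫ (X ↘ Spec (CommRingCat.of k)) = (X' ↘ Spec (CommRingCat.of k')) ≫ s)
    {a b : Pic X} (h : AlgEq k X a b) : AlgEq k' X' (pull g a) (pull g b) := by
  obtain ⟨T, q, h1, h2, h3, c, t, t₀, ht, ht₀, e, e₀⟩ := h
  have hconn : GeometricallyConnected q :=
    Fdesc.GeomAlgClosed.geometricallyConnected_of_connectedSpace q
  have hc : ConnectedSpace ↥(pullback q s) :=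
    GeometricallyConnected.geometrically_connectedSpace _ _ _ (IsPullback.of_hasPullback q s)
  let t' : Spec (CommRingCat.of k') ⟶ pullback q s :=
    pullback.lift (s ≫ t) (𝟙 _) (by rw [Category.assoc, ht, Category.comp_id, Category.id_comp])
  let t₀' : Spec (CommRingCat.of k') ⟶ pullback q s :=
    pullback.lift (s ≫ t₀) (𝟙 _) (by rw [Category.assoc, ht₀, Category.comp_id, Category.id_comp])
  have ht' : t' ≫ pullback.snd q s = 𝟙 _ := pullback.lift_snd _ _ _
  have ht₀' : t₀' ≫ pullback.snd q s = 𝟙 _ := pullback.lift_snd _ _ _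
  have htt : t' ≫ pullback.fst q s = s ≫ t := pullback.lift_fst _ _ _
  have htt₀ : t₀' ≫ pullback.fst q s = s ≫ t₀ := pullback.lift_fst _ _ _
  refine ⟨pullback q s, pullback.snd q s, hc, inferInstance, inferInstance,
    pull (prodBC g s hg q (pullback.snd q s) (pullback.fst q s) pullback.condition) c,
    t', t₀', ht', ht₀', ?_, ?_⟩
  · rw [fibCl, ← pull_comp, sliceAt_prodBC hg q _ _ _ t ht t' ht' htt, pull_comp, ← e, fibCl]
  · rw [fibCl, ← pull_comp, sliceAt_prodBC hg q _ _ _ t₀ ht₀ t₀' ht₀' htt₀, pull_comp, ← e₀, fibCl]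

variable [IsAlgClosed k] [IsAlgClosed k']

theorem mem_alg0_baseChange
    (hg : g ≫ (X ↘ Spec (CommRingCat.of k)) = (X' ↘ Spec (CommRingCat.of k')) ≫ s)
    {a : Pic X} (h : a ∈ alg0 k X) : pull g a ∈ alg0 k' X' := by
  rw [mem_alg0_iff] at *
  have := algEq_baseChange hg h
  rwa [map_one] at this

theorem mem_tau0_baseChange
    (hg : g ≫ (X ↘ Spec (CommRingCat.of k)) = (X' ↘ Spec (CommRingCat.of k')) ≫ s)
    {a : Pic X} (h : a ∈ tau0 k X) : pull g a ∈ tau0 k' X' := by
  obtain ⟨n, hn, h⟩ := h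
  refine ⟨n, hn, ?_⟩
  rw [← map_pow]
  exact mem_alg0_baseChange hg h

/-- τ-equivalence to zero is preserved by extensions of algebraically closed fields. -/
theorem isTauEquivZero_baseChange
    (hg : g ≫ (X ↘ Spec (CommRingCat.of k)) = (X' ↘ Spec (CommRingCat.of k')) ≫ s)
    {L : X.Modules} (hL : PicF.IsInvertible L) (h : Pic13.IsTauEquivZero k X L) :
    Pic13.IsTauEquivZero k' X' ((Scheme.Modules.pullback g).obj L) := by
  have hL' : PicF.IsInvertible ((Scheme.Modules.pullback g).obj L) :=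
    Groth.Agent.Fdesc.LocGen.isInvertible_pullback g hL
  rw [isTauEquivZero_iff_mem hL] at h
  rw [isTauEquivZero_iff_mem hL']
  exact mem_tau0_baseChange hg h

end BC

end Groth.Agent.Pic13.H167.FieldExt
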