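import Groth.Agent.S0429
import Groth.Agent.Ega2.Normal
import Mathlib.RingTheory.Flat.TorsionFree
import Mathlib.RingTheory.Valuation.ValuationRing
import Mathlib.AlgebraicGeometry.Morphisms.Immersion
import Mathlib.AlgebraicGeometry.Morphisms.Proper
import Mathlib.AlgebraicGeometry.Morphisms.SchemeTheoreticallyDominant
import Mathlib.AlgebraicGeometry.Morphisms.Preimmersion

/-!
# Scheme-theoretic closure of an integral closed subscheme of the generic fibre over a valuation ring

`V` a valuation ring with fraction field `K`, `q : X ⟶ Spec V` proper, `Y` an integral closed subscheme of the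
generic fibre: the scheme-theoretic image `Z` of `Y` in `X` is integral, proper, flat and of finite presentation
over `V`, with generic fibre `Y`.
-/

set_option autoImplicit false
universe u
open CategoryTheory CategoryTheory.Limits AlgebraicGeometry

namespace Groth.Agent.Pic13.H167.ValClosure

/-- An injective ring map from a Bézout domain to a domain is flat. -/
theorem ringHom_flat_of_injective {R S : Type*} [CommRing R] [IsDomain R] [IsBezout R]
    [CommRing S] [IsDomain S] (φ : R →+* S) (h : Function.Injective φ) : φ.Flat := by
  algebraize [φ]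
  change Module.Flat R S
  rw [Module.Flat.flat_iff_torsion_eq_bot_of_isBezout, ← Submodule.isTorsionFree_iff_torsion_eq_bot]
  refine ⟨fun r hr => ?_⟩
  rw [isSMulRegular_iff_right_eq_zero_of_smul]
  intro s hs
  rw [Algebra.smul_def] at hs
  rcases mul_eq_zero.mp hs with h0 | h0
  · exact absurd (h (h0.trans (map_zero _).symm)) hr.ne_zero
  · exact h0

variable (R : Type u) [CommRing R] [IsDomain R] [IsBezout R]

/-- An integral scheme dominating a Bézout domain is flat over it. -/
theorem flat_of_isDominant {X : Scheme.{u}} [IsIntegral X] (p : X ⟶ Spec (CommRingCat.of R))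
    [IsDominant p] [QuasiCompact p] : Flat p := by
  rw [HasRingHomProperty.iff_of_iSup_eq_top (P := @Flat) (fun U : X.affineOpens => U)
    (iSup_affineOpens_eq_top X)]
  intro U
  by_cases hU : Nonempty (U : X.Opens)
  · have hd : IsDomain Γ(X, U) := inferInstance
    have hR : IsDomain Γ(Spec (CommRingCat.of R), ⊤) := inferInstance
    have hP : IsBezout Γ(Spec (CommRingCat.of R), ⊤) :=
      Function.Surjective.isBezout (Scheme.ΓSpecIso (CommRingCat.of R)).inv.hom
        (ConcreteCategory.bijective_of_isIso (Scheme.ΓSpecIso (CommRingCat.of R)).inv).2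
    apply ringHom_flat_of_injective
    have h1 : Function.Injective (p.app ⊤).hom := by
      have := IsSchemeTheoreticallyDominant.of_isDominant p
      exact p.app_injective ⊤
    have h2 : Function.Injective (X.presheaf.map (homOfLE (le_top : (U : X.Opens) ≤ ⊤)).op).hom := by
      have : Nonempty (U : X.Opens) := hU
      exact map_injective_of_isIntegral X (homOfLE (le_top : (U : X.Opens) ≤ ⊤))
    have h3 : (p.appLE ⊤ U le_top).hom =
        (X.presheaf.map (homOfLE (le_top : (U : X.Opens) ≤ ⊤)).op).hom.comp (p.app ⊤).hom := rfl
    rw [h3]
    exact h2.comp h1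
  · have : (U : X.Opens) = ⊥ := by
      ext x
      simp only [TopologicalSpace.Opens.coe_bot, Set.mem_empty_iff_false, iff_false]
      exact fun hx => hU ⟨⟨x, hx⟩⟩
    have h1 : Subsingleton Γ(X, U) := by
      rw [this]
      infer_instance
    algebraize [(p.appLE ⊤ U le_top).hom]
    change Module.Flat _ _
    infer_instance

omit [IsDomain R] [IsBezout R] in
/-- `Spec K → Spec R` is dominant. -/
theorem isDominant_generic (K : Type u) [Field K] [Algebra R K] [IsFractionRing R K] :
    IsDominant (Spec.map (CommRingCat.ofHom (algebraMap R K))) := by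
  refine ⟨?_⟩
  change DenseRange (PrimeSpectrum.comap (algebraMap R K))
  rw [PrimeSpectrum.denseRange_comap_iff_ker_le_nilRadical]
  rw [(RingHom.injective_iff_ker_eq_bot _).mp (IsFractionRing.injective R K)]
  exact bot_le

theorem surjective_of_nonempty {K : Type u} [Field K] {C : Scheme.{u}} [Nonempty C]
    (f : C ⟶ Spec (CommRingCat.of K)) : Surjective f := by
  refine ⟨fun y => ?_⟩
  obtain ⟨c⟩ := ‹Nonempty C›
  have : Subsingleton (Spec (CommRingCat.of K)) :=
    inferInstanceAs (Subsingleton (PrimeSpectrum K))
  exact ⟨c, Subsingleton.elim _ _⟩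

/-- The scheme-theoretic closure of an integral closed subscheme `Y` of the generic fibre of a proper
scheme `X` over a valuation ring is integral, proper, flat, of finite presentation with generic
fibre `Y`. -/
theorem closure {K : Type u} [Field K] [Algebra R K] [IsFractionRing R K]
    {X Y : Scheme.{u}} [IsIntegral Y] (q : X ⟶ Spec (CommRingCat.of R)) [IsProper q]
    (f : Y ⟶ Spec (CommRingCat.of K)) (j : Y ⟶ X)
    (h : j ≫ q = f ≫ Spec.map (CommRingCat.ofHom (algebraMap R K)))
    (hj : IsClosedImmersion (pullback.lift j f h)) :
    IsIntegral j.image ∧ IsProper (j.imageι ≫ q) ∧ Flat (j.imageι ≫ q) ∧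
      LocallyOfFinitePresentation (j.imageι ≫ q) ∧
      IsPullback j.toImage f (j.imageι ≫ q) (Spec.map (CommRingCat.ofHom (algebraMap R K))) := by
  set i := Spec.map (CommRingCat.ofHom (algebraMap R K)) with hi
  set p := j.imageι ≫ q with hp
  have hjf : pullback.lift j f h ≫ pullback.fst q i = j := pullback.lift_fst _ _ _
  have hiaff : IsAffineHom i := inferInstance
  have hqcj : QuasiCompact j := by
    rw [← hjf]
    infer_instance
  have hint : IsIntegral j.image := Groth.Agent.Ega2.Normal.isIntegral_image j
  have hprop : IsProper p := inferInstance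
  have hcomp : j.toImage ≫ p = f ≫ i := by
    rw [hp, Scheme.Hom.toImage_imageι_assoc, h]
  have hdomi : IsDominant i := isDominant_generic R K
  have hf : Surjective f := surjective_of_nonempty f
  have hdom : IsDominant p := by
    have : IsDominant (j.toImage ≫ p) := by
      rw [hcomp]; infer_instance
    exact IsDominant.of_comp j.toImage _
  have hflat : Flat p := flat_of_isDominant R p
  have hIntR : IsIntegral (Spec (CommRingCat.of R)) := inferInstance
  have hlfp : LocallyOfFinitePresentation p := S0429.result p
  have hiflat : Flat i := by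
    have h1 : Module.Flat R K := IsLocalization.flat K (nonZeroDivisors R)
    have h2 : (algebraMap R K).Flat := RingHom.flat_algebraMap_iff.mpr h1
    exact (HasRingHomProperty.Spec_iff (P := @Flat)).mpr h2
  have hipre : IsPreimmersion i := IsPreimmersion.of_isLocalization (nonZeroDivisors R)
  have himono : Mono i := inferInstance
  refine ⟨hint, hprop, hflat, hlfp, ?_⟩
  let l : Y ⟶ pullback p i := pullback.lift j.toImage f hcomp
  have hl1 : l ≫ pullback.fst p i = j.toImage := pullback.lift_fst _ _ _
  have hl2 : l ≫ pullback.snd p i = f := pullback.lift_snd _ _ _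
  -- `l` is a closed immersion
  let m : pullback p i ⟶ pullback q i := pullback.lift (pullback.fst p i ≫ j.imageι) (pullback.snd p i)
    (by rw [Category.assoc, ← hp, pullback.condition])
  have hlm : l ≫ m = pullback.lift j f h := by
    apply pullback.hom_ext
    · rw [Category.assoc, pullback.lift_fst, reassoc_of% hl1, Scheme.Hom.toImage_imageι,
        pullback.lift_fst]
    · rw [Category.assoc, pullback.lift_snd, hl2, pullback.lift_snd]
  have hm : IsSeparated m := by
    have h1 : m ≫ pullback.snd q i = pullback.snd p i := pullback.lift_snd _ _ _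
    have h2 : IsSeparated (m ≫ pullback.snd q i) := by rw [h1]; infer_instance
    exact IsSeparated.of_comp m (pullback.snd q i)
  have hlc : IsClosedImmersion l := by
    have : IsClosedImmersion (l ≫ m) := by rw [hlm]; exact hj
    exact IsClosedImmersion.of_comp l m
  -- `l` is schematically dominant
  have hmono : Mono (pullback.fst p i) := inferInstance
  have hsq : IsPullback (𝟙 Y) l j.toImage (pullback.fst p i) := by
    rw [← hl1]
    refine ⟨⟨by rw [Category.id_comp]⟩, ⟨PullbackCone.IsLimit.mk _ (fun s => s.fst) (fun s => by simp) ?_ ?_⟩⟩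
    · intro s
      rw [← cancel_mono (pullback.fst p i), Category.assoc]
      exact s.condition
    · intro s t h1 _
      rw [← h1, Category.comp_id]
  have hdomim : IsSchemeTheoreticallyDominant j.toImage := by
    have : IsDominant j.toImage := inferInstance
    exact IsSchemeTheoreticallyDominant.of_isDominant _
  have hld : IsSchemeTheoreticallyDominant l := IsSchemeTheoreticallyDominant.of_isPullback hsq
  have hiso : IsIso l := IsClosedImmersion.isIso_iff_ker_eq_bot.mpr hld.ker_eq_bot
  exact IsPullback.of_iso_pullback ⟨hcomp⟩ (asIso l) hl1 hl2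

end Groth.Agent.Pic13.H167.ValClosure
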