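import Groth.Agent.Pic13.H167.GeomPoint
import Groth.Agent.Pic13.H167.ChiGeom
import Groth.Agent.Pic13.H167.ValClosure
import Groth.Agent.EtpbcA.CdFinDim

/-!
# τ-triviality at a geometric point implies numerical triviality at its generizations

Conditional on `ChiTau` (the statement of S4276).
-/

set_option autoImplicit false
universe u

open CategoryTheory CategoryTheory.Limits AlgebraicGeometry

namespace Groth.Agent.Pic13.H167.Generize

open Groth.Agent.Grpsch.PicGrp Groth.Agent.Pic13.H138.Slice Groth.Agent.Pic13.H138.AlgEquiv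
open Groth.Agent.Pic13.H167.NumExt Groth.Agent.Pic13.H167.FieldExt Groth.Agent.Pic13.H167.GeomPoint
open Groth.Agent.Etcore.DegZero

/-- The statement of S4276. -/
def ChiTau : Prop :=
  ∀ (k : Type u) [Field k] [IsAlgClosed k] (X : Scheme.{u}) [X.Over (Spec (CommRingCat.of k))]
    [IsProper (X ↘ Spec (CommRingCat.of k))] (d : ℕ) (_ : topologicalKrullDim X ≤ d)
    (L : X.Modules) (_ : PicF.IsInvertible L) (_ : Pic13.IsTauEquivZero k X L) (F : X.Modules)
    (_ : Coh.IsCoh F),
    FGA.eulerCharLE k X (CohB1.tensorMod F L) d = FGA.eulerCharLE k X F d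

variable (hχ : ChiTau.{u})

include hχ in
/-- `χ(L) = χ(O)` for `L` τ-trivial. -/
theorem eulerCharLE_of_mem_tau0 {k : Type u} [Field k] [IsAlgClosed k] {X : Scheme.{u}}
    [X.Over (Spec (CommRingCat.of k))] [IsProper (X ↘ Spec (CommRingCat.of k))] (d : ℕ)
    (hd : topologicalKrullDim X ≤ d) {L : X.Modules} (hL : PicF.IsInvertible L)
    (h : mk L hL ∈ tau0 k X) :
    FGA.eulerCharLE k X L d = FGA.eulerCharLE k X (Coh.structureModule X) d := by
  have h1 := hχ k X d hd L hL ((isTauEquivZero_iff_mem hL).mpr h) (Coh.structureModule X)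
    (isCoh Groth.Agent.Fdesc.LocGen.isInvertible_structureModule)
  rw [← h1]
  exact eulerCharLE_congr k X (Groth.Agent.Ega2.Tens.lunit L).symm d

include hχ in
/-- The key step: `V` a valuation ring with fraction field `Ω`, `v : Spec V ⟶ S`; if `c` is τ-trivial at some
geometric point of `Spec V` then it is numerically trivial at the generic point. -/
theorem key {V : Type u} [CommRing V] [IsDomain V] [ValuationRing V] {Ω : Type u} [Field Ω]
    [Algebra V Ω] [IsFractionRing V Ω] {X S : Scheme.{u}} (f : X ⟶ S) [IsProper f]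
    (v : Spec (CommRingCat.of V) ⟶ S) (c : Pic X) {k : Type u} [Field k] [IsAlgClosed k]
    (σ₀ : Spec (CommRingCat.of k) ⟶ Spec (CommRingCat.of V)) (h : TauAt f c (σ₀ ≫ v)) :
    NumAt f c (Spec.map (CommRingCat.ofHom (algebraMap V Ω)) ≫ v) := by
  set σ₁ := Spec.map (CommRingCat.ofHom (algebraMap V Ω)) with hσ₁
  intro Y i hi hY hdim
  let a₁ : pullback f (σ₁ ≫ v) ⟶ pullback f v :=
    pullback.lift (pullback.fst _ _) (pullback.snd _ _ ≫ σ₁) (by
      rw [pullback.condition, Category.assoc])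
  have ha₁ : a₁ ≫ pullback.fst f v = pullback.fst f (σ₁ ≫ v) := pullback.lift_fst _ _ _
  have hpb₁ : IsPullback a₁ (pullback.snd f (σ₁ ≫ v)) (pullback.snd f v) σ₁ := by
    refine IsPullback.of_right (h₁₂ := pullback.fst f v) (v₁₃ := f) (h₂₂ := v) ?_
      (pullback.lift_snd _ _ _) (IsPullback.of_hasPullback f v)
    rw [ha₁]
    exact IsPullback.of_hasPullback _ _
  let q : pullback f v ⟶ Spec (CommRingCat.of V) := pullback.snd f v
  let fY : Y ⟶ Spec (CommRingCat.of Ω) := i ≫ pullback.snd f (σ₁ ≫ v)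
  let j : Y ⟶ pullback f v := i ≫ a₁
  have hjq : j ≫ q = fY ≫ σ₁ := by
    change (i ≫ a₁) ≫ pullback.snd f v = (i ≫ pullback.snd f (σ₁ ≫ v)) ≫ σ₁
    rw [Category.assoc, Category.assoc, hpb₁.w]
  have hj : IsClosedImmersion (pullback.lift j fY hjq) := by
    have : pullback.lift j fY hjq = i ≫ hpb₁.isoPullback.hom := by
      apply pullback.hom_ext
      · rw [pullback.lift_fst, Category.assoc, hpb₁.isoPullback_hom_fst]
      · rw [pullback.lift_snd, Category.assoc, hpb₁.isoPullback_hom_snd]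
    rw [this]
    exact MorphismProperty.RespectsIso.postcomp @IsClosedImmersion _ _ hi
  have hqproper : IsProper q := inferInstanceAs (IsProper (pullback.snd f v))
  obtain ⟨-, hproper, hflat, hlfp, hZ⟩ := ValClosure.closure V q fY j hjq hj
  set p := j.imageι ≫ q with hp
  -- the class on the closure
  obtain ⟨L, hL, hcL⟩ := exists_mk (pull (j.imageι ≫ pullback.fst f v) c)
  -- dimension of the fibres
  have hfYp : IsProper fY := by
    have h1 : IsProper (pullback.snd f (σ₁ ≫ v)) := inferInstance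
    exact MorphismProperty.comp_mem _ i _ (inferInstanceAs (IsProper i)) h1
  have hsnd₁ : IsProper (pullback.snd p σ₁) := inferInstance
  have hsnd₀ : IsProper (pullback.snd p σ₀) := inferInstance
  let e : Y ⟶ pullback p σ₁ := hZ.isoPullback.hom
  have hefst : e ≫ pullback.fst p σ₁ = j.toImage := hZ.isoPullback_hom_fst
  have hesnd : e ≫ pullback.snd p σ₁ = fY := hZ.isoPullback_hom_snd
  have hepb : IsPullback e fY (pullback.snd p σ₁) (𝟙 _) :=
    IsPullback.of_horiz_isIso ⟨by rw [hesnd, Category.comp_id]⟩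
  have hd₁ : topologicalKrullDim ↑(pullback p σ₁) ≤ (1 : ℕ) := by
    rw [← Etcore.DimBaseChange.topologicalKrullDim_eq (K := CommRingCat.of Ω)
      (L := CommRingCat.of Ω) (Field.toIsField Ω) (Field.toIsField Ω) (pullback.snd p σ₁) fY e (𝟙 _)
      hepb, hdim]
    exact le_rfl
  obtain ⟨n, hn⟩ := EtpbcA.CdFinDim.exists_dim_le (pullback.snd p σ₀)
  have hpre : PreconnectedSpace ↥(Spec (CommRingCat.of V)) := by
    have : IrreducibleSpace ↥(Spec (CommRingCat.of V)) :=
      inferInstanceAs (IrreducibleSpace (PrimeSpectrum V))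
    infer_instance
  have hχL := ChiGeom.eulerCharLE_eq p hL σ₁ σ₀ 1 n hd₁ hn
  have hχO := ChiGeom.eulerCharLE_eq p
    (Groth.Agent.Fdesc.LocGen.isInvertible_structureModule (X := j.image)) σ₁ σ₀ 1 n hd₁ hn
  -- structures over the fields
  let _ : Y.Over (Spec (CommRingCat.of Ω)) := ⟨fY⟩
  let _ : (pullback p σ₁).Over (Spec (CommRingCat.of Ω)) := ⟨pullback.snd p σ₁⟩
  let _ : (pullback p σ₀).Over (Spec (CommRingCat.of k)) := ⟨pullback.snd p σ₀⟩
  have hprop₀ : IsProper (pullback p σ₀ ↘ Spec (CommRingCat.of k)) := hsnd₀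
  have hL₁ : PicF.IsInvertible ((Scheme.Modules.pullback (pullback.fst p σ₁)).obj L) :=
    Groth.Agent.Fdesc.LocGen.isInvertible_pullback _ hL
  have hL₀ : PicF.IsInvertible ((Scheme.Modules.pullback (pullback.fst p σ₀)).obj L) :=
    Groth.Agent.Fdesc.LocGen.isInvertible_pullback _ hL
  -- the special fibre
  let g₀ : pullback p σ₀ ⟶ gf f (σ₀ ≫ v) :=
    pullback.lift (pullback.fst p σ₀ ≫ j.imageι ≫ pullback.fst f v) (pullback.snd p σ₀) (by
      rw [Category.assoc, Category.assoc, pullback.condition, ← reassoc_of% hp,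
        pullback.condition_assoc])
  have hg₀ : g₀ ≫ pullback.fst f (σ₀ ≫ v) = pullback.fst p σ₀ ≫ j.imageι ≫ pullback.fst f v :=
    pullback.lift_fst _ _ _
  have hg₀' : g₀ ≫ (gf f (σ₀ ≫ v) ↘ Spec (CommRingCat.of k)) =
      (pullback p σ₀ ↘ Spec (CommRingCat.of k)) := pullback.lift_snd _ _ _
  have hτ₀ : mk ((Scheme.Modules.pullback (pullback.fst p σ₀)).obj L) hL₀ ∈ tau0 k (pullback p σ₀) := by
    have h1 := pull_mem_tau0 g₀ hg₀' h
    rw [← pull_comp, hg₀, pull_comp, hcL, pull_mk] at h1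
    exact h1
  have hspecial := eulerCharLE_of_mem_tau0 hχ n hn hL₀ hτ₀
  -- put everything together
  have hunit₁ : FGA.eulerCharLE Ω (pullback p σ₁) (Coh.structureModule _) 1 =
      FGA.eulerCharLE Ω (pullback p σ₁) ((Scheme.Modules.pullback (pullback.fst p σ₁)).obj
        (Coh.structureModule _)) 1 :=
    (eulerCharLE_congr Ω (pullback p σ₁) (CurvesA.HHMap.pullbackUnit (pullback.fst p σ₁)) 1).symm
  have hunit₀ : FGA.eulerCharLE k (pullback p σ₀) (Coh.structureModule _) n =
      FGA.eulerCharLE k (pullback p σ₀) ((Scheme.Modules.pullback (pullback.fst p σ₀)).obj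
        (Coh.structureModule _)) n :=
    (eulerCharLE_congr k (pullback p σ₀) (CurvesA.HHMap.pullbackUnit (pullback.fst p σ₀)) n).symm
  have hdg₁ : dg Ω (pullback p σ₁) (pull (pullback.fst p σ₁) (mk L hL)) = 0 := by
    rw [pull_mk, dg_mk, hunit₁, sub_eq_zero]
    refine hχL.trans (Eq.trans ?_ hχO.symm)
    exact hspecial.trans hunit₀
  have hc₁ : CompactSpace ↥(pullback p σ₁) := QuasiCompact.compactSpace_of_compactSpace
    (pullback.snd p σ₁)
  have hc₂ : QuasiSeparatedSpace ↥(pullback p σ₁) := quasiSeparatedSpace_of_quasiSeparated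
    (pullback.snd p σ₁)
  have hfin := dg_pull Ω (pullback p σ₁) Ω Y e (𝟙 _) hepb (pull (pullback.fst p σ₁) (mk L hL))
  rw [hdg₁, ← pull_comp, hefst, ← hcL, ← pull_comp, Scheme.Hom.toImage_imageι_assoc] at hfin
  change @dg Ω _ Y ⟨i ≫ (gf f (σ₁ ≫ v) ↘ Spec (CommRingCat.of Ω))⟩ _ = 0
  rw [← pull_comp, ← ha₁, ← Category.assoc]
  exact hfin

end Groth.Agent.Pic13.H167.Generize
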