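import Groth.Agent.Pic13.H167.NumExt

/-!
# τ-triviality at a geometric point does not depend on the geometric point

Conditional on `TauNum` (the equivalence of τ-equivalence and numerical equivalence to zero on
proper schemes over algebraically closed fields, i.e. S4277 and S4278).
-/

set_option autoImplicit false
universe u

open CategoryTheory CategoryTheory.Limits AlgebraicGeometry

namespace Groth.Agent.Pic13.H167.GeomPoint

open Groth.Agent.Grpsch.PicGrp Groth.Agent.Pic13.H138.Slice Groth.Agent.Pic13.H138.AlgEquiv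
open Groth.Agent.Pic13.H167.NumExt Groth.Agent.Pic13.H167.FieldExt

/-- The statement of S4277 and S4278 together. -/
def TauNum : Prop :=
  ∀ (k : Type u) [Field k] [IsAlgClosed k] (X : Scheme.{u}) [X.Over (Spec (CommRingCat.of k))]
    [IsProper (X ↘ Spec (CommRingCat.of k))] (L : X.Modules) (_ : PicF.IsInvertible L),
    Pic13.IsTauEquivZero k X L ↔ Pic13.IsNumEquivZero k X L

variable (hTN : TauNum.{u})

include hTN in
theorem mem_tau0_iff_numTriv (k : Type u) [Field k] [IsAlgClosed k] (X : Scheme.{u})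
    [X.Over (Spec (CommRingCat.of k))] [IsProper (X ↘ Spec (CommRingCat.of k))] (c : Pic X) :
    c ∈ tau0 k X ↔ NumTriv k X c := by
  induction c using ind with | _ L hL => ?_
  rw [← isTauEquivZero_iff_mem hL, ← isNumEquivZero_iff k X hL]
  exact hTN k X L hL

section

variable {X S : Scheme.{u}} (f : X ⟶ S)

/-- The geometric fibre at `σ`, as a scheme over `Spec Ω`. -/
noncomputable abbrev gf {Ω : Type u} [Field Ω] (σ : Spec (CommRingCat.of Ω) ⟶ S) : Scheme.{u} := pullback f σ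

noncomputable instance overGf {Ω : Type u} [Field Ω] (σ : Spec (CommRingCat.of Ω) ⟶ S) :
    (gf f σ).Over (Spec (CommRingCat.of Ω)) := ⟨pullback.snd f σ⟩

/-- The class of the pull back of `c` is τ-trivial at the geometric point `σ`. -/
def TauAt (c : Pic X) {Ω : Type u} [Field Ω] [IsAlgClosed Ω] (σ : Spec (CommRingCat.of Ω) ⟶ S) : Prop :=
  pull (pullback.fst f σ) c ∈ tau0 Ω (gf f σ)

/-- The class of the pull back of `c` is numerically trivial at the geometric point `σ`. -/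
def NumAt (c : Pic X) {Ω : Type u} [Field Ω] (σ : Spec (CommRingCat.of Ω) ⟶ S) : Prop :=
  NumTriv Ω (gf f σ) (pull (pullback.fst f σ) c)

theorem isTauTrivialAt_iff {L : X.Modules} (hL : PicF.IsInvertible L) (s : S) :
    Pic13.IsTauTrivialAt f L s ↔ ∀ (Ω : Type u) [Field Ω] [IsAlgClosed Ω]
      (σ : Spec (CommRingCat.of Ω) ⟶ S), Set.range σ.base = {s} → TauAt f (mk L hL) σ := by
  have hL' : ∀ {Ω : Type u} [Field Ω] (σ : Spec (CommRingCat.of Ω) ⟶ S),
      PicF.IsInvertible ((Scheme.Modules.pullback (pullback.fst f σ)).obj L) := fun σ =>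
    Groth.Agent.Fdesc.LocGen.isInvertible_pullback _ hL
  constructor
  · intro h Ω _ _ σ hσ
    exact (isTauEquivZero_iff_mem (hL' σ)).mp (h Ω σ hσ)
  · intro h Ω _ _ σ hσ
    exact (isTauEquivZero_iff_mem (hL' σ)).mpr (h Ω σ hσ)

/-- Base change of geometric fibres along an extension of fields. -/
noncomputable def gfMap {Ω Ω' : Type u} [Field Ω] [Field Ω'] (σ : Spec (CommRingCat.of Ω) ⟶ S)
    (σ' : Spec (CommRingCat.of Ω') ⟶ S) (τ : Spec (CommRingCat.of Ω') ⟶ Spec (CommRingCat.of Ω))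
    (h : τ ≫ σ = σ') : gf f σ' ⟶ gf f σ :=
  pullback.lift (pullback.fst _ _) (pullback.snd _ _ ≫ τ) (by
    rw [pullback.condition, Category.assoc, h])

@[reassoc (attr := simp)]
theorem gfMap_fst {Ω Ω' : Type u} [Field Ω] [Field Ω'] (σ : Spec (CommRingCat.of Ω) ⟶ S)
    (σ' : Spec (CommRingCat.of Ω') ⟶ S) (τ : Spec (CommRingCat.of Ω') ⟶ Spec (CommRingCat.of Ω))
    (h : τ ≫ σ = σ') : gfMap f σ σ' τ h ≫ pullback.fst f σ = pullback.fst f σ' :=
  pullback.lift_fst _ _ _

theorem isPullback_gfMap {Ω Ω' : Type u} [Field Ω] [Field Ω'] (σ : Spec (CommRingCat.of Ω) ⟶ S)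
    (σ' : Spec (CommRingCat.of Ω') ⟶ S) (τ : Spec (CommRingCat.of Ω') ⟶ Spec (CommRingCat.of Ω))
    (h : τ ≫ σ = σ') :
    IsPullback (gfMap f σ σ' τ h) (gf f σ' ↘ Spec (CommRingCat.of Ω'))
      (gf f σ ↘ Spec (CommRingCat.of Ω)) τ := by
  subst h
  refine IsPullback.of_right (h₁₂ := pullback.fst f σ) (v₁₃ := f) (h₂₂ := σ) ?_
    (pullback.lift_snd _ _ _) (IsPullback.of_hasPullback f σ)
  rw [gfMap_fst]
  exact IsPullback.of_hasPullback _ _

theorem TauAt.up {c : Pic X} {Ω Ω' : Type u} [Field Ω] [Field Ω'] [IsAlgClosed Ω] [IsAlgClosed Ω']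
    {σ : Spec (CommRingCat.of Ω) ⟶ S} (h : TauAt f c σ)
    (σ' : Spec (CommRingCat.of Ω') ⟶ S) (τ : Spec (CommRingCat.of Ω') ⟶ Spec (CommRingCat.of Ω))
    (hτ : τ ≫ σ = σ') : TauAt f c σ' := by
  have h1 := mem_tau0_baseChange (isPullback_gfMap f σ σ' τ hτ).w h
  rw [← pull_comp, gfMap_fst] at h1
  exact h1

theorem NumAt.down [IsProper f] {c : Pic X} {Ω Ω' : Type u} [Field Ω] [Field Ω'] [IsAlgClosed Ω]
    {σ : Spec (CommRingCat.of Ω) ⟶ S}
    (σ' : Spec (CommRingCat.of Ω') ⟶ S) (h : NumAt f c σ')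
    (τ : Spec (CommRingCat.of Ω') ⟶ Spec (CommRingCat.of Ω))
    (hτ : τ ≫ σ = σ') : NumAt f c σ := by
  have hp : IsProper (gf f σ ↘ Spec (CommRingCat.of Ω)) :=
    inferInstanceAs (IsProper (pullback.snd f σ))
  refine numTriv_of_baseChange (isPullback_gfMap f σ σ' τ hτ) ?_
  rw [← pull_comp, gfMap_fst]
  exact h

include hTN in
theorem tauAt_iff_numAt [IsProper f] (c : Pic X) {Ω : Type u} [Field Ω] [IsAlgClosed Ω]
    (σ : Spec (CommRingCat.of Ω) ⟶ S) : TauAt f c σ ↔ NumAt f c σ := by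
  have hp : IsProper (gf f σ ↘ Spec (CommRingCat.of Ω)) :=
    inferInstanceAs (IsProper (pullback.snd f σ))
  exact mem_tau0_iff_numTriv hTN Ω (gf f σ) _

include hTN in
/-- τ-triviality at a geometric point depends only on its image. -/
theorem tauAt_iff_of_range [IsProper f] (c : Pic X) {Ω Ω' : Type u} [Field Ω] [Field Ω']
    [IsAlgClosed Ω] [IsAlgClosed Ω'] (σ : Spec (CommRingCat.of Ω) ⟶ S)
    (σ' : Spec (CommRingCat.of Ω') ⟶ S) {s : S} (hσ : Set.range σ.base = {s})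
    (hσ' : Set.range σ'.base = {s}) (h : TauAt f c σ) : TauAt f c σ' := by
  obtain ⟨Ω'', _, _, τ₁, τ₂, e⟩ := exists_common_geometric_point σ σ' s hσ hσ'
  have h1 : TauAt f c (τ₁ ≫ σ) := TauAt.up f h _ τ₁ rfl
  rw [tauAt_iff_numAt hTN] at h1 ⊢
  exact NumAt.down f (τ₁ ≫ σ) h1 τ₂ e.symm

include hTN in
/-- τ-triviality at a point can be tested on one geometric point. -/
theorem isTauTrivialAt_iff_of_range [IsProper f] {L : X.Modules} (hL : PicF.IsInvertible L) {s : S}
    {Ω : Type u} [Field Ω] [IsAlgClosed Ω] (σ : Spec (CommRingCat.of Ω) ⟶ S)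
    (hσ : Set.range σ.base = {s}) : Pic13.IsTauTrivialAt f L s ↔ TauAt f (mk L hL) σ := by
  rw [isTauTrivialAt_iff f hL]
  constructor
  · intro h
    exact h Ω σ hσ
  · intro h Ω' _ _ σ' hσ'
    exact tauAt_iff_of_range hTN f _ σ σ' hσ hσ' h

end

end Groth.Agent.Pic13.H167.GeomPoint
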