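import Groth.Agent.Pic13.H167.FieldExt
import Groth.Agent.Etcore.DegZero
import Groth.Agent.Etcore.DimBaseChange
import Groth.Agent.Sga3C.GeomRedPerf
import Groth.Agent.Flat2B.GINPoly
import Mathlib.AlgebraicGeometry.Geometrically.Integral

/-!
# Numerical triviality and extensions of algebraically closed fields

* `NumTriv`, `isNumEquivZero_iff` : numerical triviality in terms of `Etcore.DegZero.dg` on `Pic`.
* `numTriv_of_baseChange`, `isNumEquivZero_of_baseChange` : if `L ⊗ k'` is numerically trivial then so is `L`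
  (`k` algebraically closed, `X` proper over `k`).
* `exists_common_geometric_point`: two geometric points at the same point of `S` are dominated by
  a third one.
-/

set_option autoImplicit false
universe u

open CategoryTheory CategoryTheory.Limits AlgebraicGeometry

namespace Groth.Agent.Pic13.H167.NumExt

open Groth.Agent.Grpsch.PicGrp Groth.Agent.Pic13.H138.Slice Groth.Agent.Pic13.H138.AlgEquiv
open Groth.Agent.Etcore.DegZero

section

variable (k : Type u) [Field k]

theorem curveDeg_eq_dg {Y : Scheme.{u}} (p : Y ⟶ Spec (CommRingCat.of k)) {L : Y.Modules}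
    (hL : PicF.IsInvertible L) : Pic13.curveDeg k p L = @dg k _ Y ⟨p⟩ (mk L hL) := rfl

/-- Numerical triviality of a class: degree zero on all integral closed curves. -/
def NumTriv (X : Scheme.{u}) [X.Over (Spec (CommRingCat.of k))] (c : Pic X) : Prop :=
  ∀ (Y : Scheme.{u}) (i : Y ⟶ X), IsClosedImmersion i → IsIntegral Y → topologicalKrullDim Y = 1 →
    @dg k _ Y ⟨i ≫ (X ↘ Spec (CommRingCat.of k))⟩ (pull i c) = 0

theorem isNumEquivZero_iff (X : Scheme.{u}) [X.Over (Spec (CommRingCat.of k))] {L : X.Modules}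
    (hL : PicF.IsInvertible L) : Pic13.IsNumEquivZero k X L ↔ NumTriv k X (mk L hL) := by
  constructor
  · intro h Y i hi hY hd
    exact h Y i hY hd
  · intro h Y i hi hY hd
    exact h Y i hi hY hd

/-- A reduced and irreducible scheme over an algebraically closed field is geometrically
integral. -/
theorem geometricallyIntegral_of_isIntegral [IsAlgClosed k] {X : Scheme.{u}}
    (f : X ⟶ Spec (CommRingCat.of k)) [IsIntegral X] : GeometricallyIntegral f := by
  have : GeometricallyReduced f := Sga3C.GeomRedPerf.geometricallyReduced_of_isReduced f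
  have : GeometricallyIrreducible f :=
    Fdesc.GeomAlgClosed.geometricallyIrreducible_of_irreducibleSpace f
  exact GeometricallyIntegral.of_geometricallyReduced_of_geometricallyIrreducible f

end

section BC

variable {k : Type u} [Field k] {k' : Type u} [Field k']
variable {X : Scheme.{u}} [X.Over (Spec (CommRingCat.of k))]
variable {X' : Scheme.{u}} [X'.Over (Spec (CommRingCat.of k'))]
variable {g : X' ⟶ X} {s : Spec (CommRingCat.of k') ⟶ Spec (CommRingCat.of k)}

/-- Numerical triviality descends along extensions of algebraically closed fields. -/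
theorem numTriv_of_baseChange [IsAlgClosed k] [IsProper (X ↘ Spec (CommRingCat.of k))]
    (hpb : IsPullback g (X' ↘ Spec (CommRingCat.of k')) (X ↘ Spec (CommRingCat.of k)) s)
    {c : Pic X} (h : NumTriv k' X' (pull g c)) : NumTriv k X c := by
  intro Y i hi hY hd
  have hpbY : IsPullback (pullback.fst i g) (pullback.snd i g ≫ (X' ↘ Spec (CommRingCat.of k')))
      (i ≫ (X ↘ Spec (CommRingCat.of k))) s :=
    (IsPullback.of_hasPullback i g).paste_vert hpb
  have hgi : GeometricallyIntegral (i ≫ (X ↘ Spec (CommRingCat.of k))) :=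
    geometricallyIntegral_of_isIntegral k _
  have hY' : IsIntegral ↑(pullback i g) :=
    GeometricallyIntegral.geometrically_isIntegral _ _ _ hpbY
  have hprop : IsProper (i ≫ (X ↘ Spec (CommRingCat.of k))) := inferInstance
  have hd' : topologicalKrullDim ↑(pullback i g) = 1 := by
    rw [Etcore.DimBaseChange.topologicalKrullDim_eq (K := CommRingCat.of k)
      (L := CommRingCat.of k') (Field.toIsField k) (Field.toIsField k')
      (i ≫ (X ↘ Spec (CommRingCat.of k))) _ _ s hpbY, hd]
  have h1 := h (pullback i g) (pullback.snd i g) inferInstance hY' hd'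
  have h2 : pull (pullback.snd i g) (pull g c) = pull (pullback.fst i g) (pull i c) := by
    rw [← pull_comp, ← pull_comp, pullback.condition]
  rw [h2] at h1
  let _ : Y.Over (Spec (CommRingCat.of k)) := ⟨i ≫ (X ↘ Spec (CommRingCat.of k))⟩
  let _ : (pullback i g).Over (Spec (CommRingCat.of k')) :=
    ⟨pullback.snd i g ≫ (X' ↘ Spec (CommRingCat.of k'))⟩
  have hc : CompactSpace Y := QuasiCompact.compactSpace_of_compactSpace
    (i ≫ (X ↘ Spec (CommRingCat.of k)))
  have hqs : QuasiSeparatedSpace Y := quasiSeparatedSpace_of_quasiSeparated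
    (i ≫ (X ↘ Spec (CommRingCat.of k)))
  have h3 := dg_pull k Y k' (pullback i g) (pullback.fst i g) s hpbY (pull i c)
  rw [← h3]
  exact h1

/-- Numerical triviality descends along extensions of algebraically closed fields. -/
theorem isNumEquivZero_of_baseChange [IsAlgClosed k] [IsProper (X ↘ Spec (CommRingCat.of k))]
    (hpb : IsPullback g (X' ↘ Spec (CommRingCat.of k')) (X ↘ Spec (CommRingCat.of k)) s)
    {L : X.Modules} (hL : PicF.IsInvertible L)
    (h : Pic13.IsNumEquivZero k' X' ((Scheme.Modules.pullback g).obj L)) :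
    Pic13.IsNumEquivZero k X L := by
  have hL' : PicF.IsInvertible ((Scheme.Modules.pullback g).obj L) :=
    Groth.Agent.Fdesc.LocGen.isInvertible_pullback g hL
  rw [isNumEquivZero_iff k X hL]
  rw [isNumEquivZero_iff k' X' hL'] at h
  exact numTriv_of_baseChange hpb h

end BC

/-- Two geometric points at the same point are dominated by a third one. -/
theorem exists_common_geometric_point {S : Scheme.{u}} {Ω₁ Ω₂ : Type u} [Field Ω₁] [Field Ω₂]
    (σ₁ : Spec (CommRingCat.of Ω₁) ⟶ S) (σ₂ : Spec (CommRingCat.of Ω₂) ⟶ S) (s : S)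
    (h₁ : Set.range σ₁.base = {s}) (h₂ : Set.range σ₂.base = {s}) :
    ∃ (Ω : Type u) (_ : Field Ω) (_ : IsAlgClosed Ω)
      (τ₁ : Spec (CommRingCat.of Ω) ⟶ Spec (CommRingCat.of Ω₁))
      (τ₂ : Spec (CommRingCat.of Ω) ⟶ Spec (CommRingCat.of Ω₂)), τ₁ ≫ σ₁ = τ₂ ≫ σ₂ := by
  have hne : Nonempty ↑(pullback σ₁ σ₂) := by
    have e₁ : σ₁.base (IsLocalRing.closedPoint Ω₁) = s := by
      have : σ₁.base (IsLocalRing.closedPoint Ω₁) ∈ Set.range σ₁.base := ⟨_, rfl⟩
      rw [h₁] at this
      exact this
    have e₂ : σ₂.base (IsLocalRing.closedPoint Ω₂) = s := by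
      have : σ₂.base (IsLocalRing.closedPoint Ω₂) ∈ Set.range σ₂.base := ⟨_, rfl⟩
      rw [h₂] at this
      exact this
    obtain ⟨z, -, -⟩ := Scheme.Pullback.exists_preimage_pullback (f := σ₁) (g := σ₂)
      (IsLocalRing.closedPoint Ω₁) (IsLocalRing.closedPoint Ω₂) (e₁.trans e₂.symm)
    exact ⟨z⟩
  obtain ⟨z⟩ := hne
  let Ω := AlgebraicClosure ((pullback σ₁ σ₂).residueField z)
  let a : Spec (CommRingCat.of Ω) ⟶ pullback σ₁ σ₂ :=
    Spec.map (CommRingCat.ofHom (algebraMap ((pullback σ₁ σ₂).residueField z) Ω)) ≫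
      (pullback σ₁ σ₂).fromSpecResidueField z
  exact ⟨Ω, inferInstance, inferInstance, a ≫ pullback.fst _ _, a ≫ pullback.snd _ _, by
    rw [Category.assoc a, Category.assoc a, pullback.condition]⟩

end Groth.Agent.Pic13.H167.NumExt
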