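import Groth.Agent.Pic13.H167.Generize
import Mathlib.RingTheory.Valuation.LocalSubring

/-!
# The τ-trivial locus is stable under generization

Conditional on `TauNum` (S4277 and S4278) and `ChiTau` (S4276).
-/

set_option autoImplicit false
universe u

open CategoryTheory CategoryTheory.Limits AlgebraicGeometry

namespace Groth.Agent.Pic13.H167.Special

open Groth.Agent.Grpsch.PicGrp Groth.Agent.Pic13.H138.Slice Groth.Agent.Pic13.H138.AlgEquiv
open Groth.Agent.Pic13.H167.NumExt Groth.Agent.Pic13.H167.FieldExt Groth.Agent.Pic13.H167.GeomPoint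
open Groth.Agent.Pic13.H167.Generize

/-- A morphism from the spectrum of a field has a one point image. -/
theorem range_eq {S : Scheme.{u}} {K : Type u} [Field K] (σ : Spec (CommRingCat.of K) ⟶ S)
    (x : Spec (CommRingCat.of K)) : Set.range σ.base = {σ x} := by
  ext y
  constructor
  · rintro ⟨z, rfl⟩
    have : Subsingleton (Spec (CommRingCat.of K)) :=
      inferInstanceAs (Subsingleton (PrimeSpectrum K))
    rw [Subsingleton.elim z x]
    rfl
  · rintro rfl
    exact ⟨x, rfl⟩

/-- A specialization is realized by a valuation ring of an algebraically closed field. -/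
theorem exists_valuation {S : Scheme.{u}} {s' s : S} (h : s' ⤳ s) :
    ∃ (Ω : Type u) (_ : Field Ω) (_ : IsAlgClosed Ω) (V : ValuationSubring Ω)
      (v : Spec (CommRingCat.of V) ⟶ S), v (IsLocalRing.closedPoint V) = s ∧
      Set.range (Spec.map (CommRingCat.ofHom (algebraMap V Ω)) ≫ v).base = {s'} := by
  let Ω := AlgebraicClosure (S.residueField s')
  let φ : S.presheaf.stalk s ⟶ CommRingCat.of Ω :=
    S.presheaf.stalkSpecializes h ≫ S.residue s' ≫
      CommRingCat.ofHom (algebraMap (S.residueField s') Ω)
  obtain ⟨V, hV, hloc⟩ := IsLocalRing.exists_factor_valuationRing φ.hom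
  let g : S.presheaf.stalk s →+* V := φ.hom.codRestrict V.toSubring hV
  let v : Spec (CommRingCat.of V) ⟶ S := Spec.map (CommRingCat.ofHom g) ≫ S.fromSpecStalk s
  refine ⟨Ω, inferInstance, inferInstance, V, v, ?_, ?_⟩
  · have h1 : Spec.map (CommRingCat.ofHom g) (IsLocalRing.closedPoint V) =
        IsLocalRing.closedPoint (S.presheaf.stalk s) := by
      have : IsLocalHom g := hloc
      exact IsLocalRing.comap_closedPoint g
    change (Spec.map (CommRingCat.ofHom g) ≫ S.fromSpecStalk s) (IsLocalRing.closedPoint V) = s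
    rw [Scheme.Hom.comp_apply, h1, Scheme.fromSpecStalk_closedPoint]
  · have h2 : Spec.map (CommRingCat.ofHom (algebraMap V Ω)) ≫ v =
        Spec.map (CommRingCat.ofHom (algebraMap (S.residueField s') Ω)) ≫
          S.fromSpecResidueField s' := by
      change _ ≫ Spec.map (CommRingCat.ofHom g) ≫ S.fromSpecStalk s = _
      rw [← Category.assoc, ← Spec.map_comp]
      have h3 : CommRingCat.ofHom g ≫ CommRingCat.ofHom (algebraMap V Ω) = φ := by
        ext x
        rfl
      rw [h3, Spec.map_comp, Spec.map_comp, Category.assoc, Category.assoc,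
        Scheme.SpecMap_stalkSpecializes_fromSpecStalk]
      rfl
    rw [h2]
    have h4 := range_eq (K := Ω) (Spec.map (CommRingCat.ofHom (algebraMap (S.residueField s') Ω)) ≫
      S.fromSpecResidueField s') (IsLocalRing.closedPoint Ω)
    rw [h4, Scheme.Hom.comp_apply, Scheme.fromSpecResidueField_apply]

variable (hTN : TauNum.{u}) (hχ : ChiTau.{u})

include hTN hχ in
/-- The τ-trivial locus is stable under generization. -/
theorem isTauTrivialAt_of_specializes {X S : Scheme.{u}} (f : X ⟶ S) [IsProper f] {L : X.Modules}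
    (hL : PicF.IsInvertible L) {s' s : S} (h : s' ⤳ s) (hs : Pic13.IsTauTrivialAt f L s) :
    Pic13.IsTauTrivialAt f L s' := by
  obtain ⟨Ω, _, _, V, v, hv, hr⟩ := exists_valuation h
  rw [isTauTrivialAt_iff_of_range hTN f hL _ hr, tauAt_iff_numAt hTN]
  let k := AlgebraicClosure (IsLocalRing.ResidueField V)
  let σ₀ : Spec (CommRingCat.of k) ⟶ Spec (CommRingCat.of V) :=
    Spec.map (CommRingCat.ofHom (algebraMap (IsLocalRing.ResidueField V) k)) ≫
      Spec.map (CommRingCat.ofHom (IsLocalRing.residue V))
  refine key hχ f v (mk L hL) σ₀ ?_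
  refine (isTauTrivialAt_iff f hL s).mp hs k (σ₀ ≫ v) ?_
  have h4 := range_eq (K := k) (σ₀ ≫ v) (IsLocalRing.closedPoint k)
  rw [h4, Scheme.Hom.comp_apply, ← hv]
  congr 2
  change (PrimeSpectrum.comap (IsLocalRing.residue V)
    (PrimeSpectrum.comap (algebraMap (IsLocalRing.ResidueField V) k)
    (IsLocalRing.closedPoint k))) = _
  have h1 : PrimeSpectrum.comap (algebraMap (IsLocalRing.ResidueField V) k)
      (IsLocalRing.closedPoint k) = IsLocalRing.closedPoint (IsLocalRing.ResidueField V) :=
    Subsingleton.elim _ _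
  rw [h1]
  exact IsLocalRing.comap_closedPoint (IsLocalRing.residue V)

end Groth.Agent.Pic13.H167.Special
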